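import Mathlib

/-!
# S5719, `Ω₇(q)`, `Ω₉(q)`: index lemmas for subgroups of products (helper59)
-/

set_option autoImplicit false
set_option linter.unusedSectionVars false

namespace Cfsg.Agent.H59.IF

open Subgroup

section prod

variable {G H : Type*} [Group G] [Group H] [Finite G] [Finite H]

/-- `|G × H : X| = |G : X ∩ G| |H : π₂ X|` -/
theorem index_prod (X : Subgroup (G × H)) :
    X.index = (X.comap (MonoidHom.inl G H)).index * (X.map (MonoidHom.snd G H)).index := by
  have h1 : Nat.card X = Nat.card (X.comap (MonoidHom.inl G H)) * Nat.card (X.map (MonoidHom.snd G H)) := by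
    have h2 := ((MonoidHom.snd G H).comp X.subtype).ker.card_eq_card_quotient_mul_card_subgroup
    have h3 : Nat.card (↥X ⧸ ((MonoidHom.snd G H).comp X.subtype).ker) = Nat.card (X.map (MonoidHom.snd G H)) := by
      rw [Nat.card_congr (QuotientGroup.quotientKerEquivRange _).toEquiv, MonoidHom.range_comp, Subgroup.range_subtype]
    have h4 : Nat.card ((MonoidHom.snd G H).comp X.subtype).ker = Nat.card (X.comap (MonoidHom.inl G H)) := by
      refine Nat.card_congr ⟨fun x => ⟨(x : ↥X).1.1, ?_⟩, fun g => ⟨⟨(g.1, 1), g.2⟩, rfl⟩, ?_, ?_⟩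
      · have h5 : (x : ↥X).1.2 = 1 := x.2
        have h6 : ((x : ↥X).1.1, (1 : H)) = (x : ↥X).1 := Prod.ext rfl h5.symm
        rw [Subgroup.mem_comap]
        change ((x : ↥X).1.1, (1 : H)) ∈ X
        rw [h6]
        exact x.1.2
      · intro x
        have h5 : (x : ↥X).1.2 = 1 := x.2
        apply Subtype.ext
        apply Subtype.ext
        exact Prod.ext rfl h5.symm
      · intro g
        rfl
    rw [h2, h3, h4, mul_comm]
  have e1 := X.card_mul_index
  have e2 := (X.comap (MonoidHom.inl G H)).card_mul_index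
  have e3 := (X.map (MonoidHom.snd G H)).card_mul_index
  rw [Nat.card_prod, ← e2, ← e3, h1] at e1
  have hp : 0 < Nat.card (X.comap (MonoidHom.inl G H)) * Nat.card (X.map (MonoidHom.snd G H)) :=
    Nat.mul_pos Nat.card_pos Nat.card_pos
  apply Nat.eq_of_mul_eq_mul_left hp
  rw [e1]
  ring

/-- the other factor -/
theorem index_prod' (X : Subgroup (G × H)) :
    X.index = (X.comap (MonoidHom.inr G H)).index * (X.map (MonoidHom.fst G H)).index := by
  have h := index_prod (X.comap (MulEquiv.prodComm : H × G ≃* G × H).toMonoidHom)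
  have h1 : (X.comap (MulEquiv.prodComm : H × G ≃* G × H).toMonoidHom).index = X.index :=
    Subgroup.index_comap_of_surjective X (MulEquiv.prodComm : H × G ≃* G × H).surjective
  have h2 : (X.comap (MulEquiv.prodComm : H × G ≃* G × H).toMonoidHom).comap (MonoidHom.inl H G) =
      X.comap (MonoidHom.inr G H) := by
    ext x
    exact Iff.rfl
  have h3 : (X.comap (MulEquiv.prodComm : H × G ≃* G × H).toMonoidHom).map (MonoidHom.snd H G) =
      X.map (MonoidHom.fst G H) := by
    ext x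
    constructor
    · rintro ⟨⟨b, a⟩, hy, he⟩
      exact ⟨(a, b), hy, he⟩
    · rintro ⟨⟨a, b⟩, hy, he⟩
      exact ⟨(b, a), hy, he⟩
  rw [h1, h2, h3] at h
  exact h

theorem conj_inr (X : Subgroup (G × H)) {p : H} (hp : p ∈ X.map (MonoidHom.snd G H)) {n : H}
    (hn : n ∈ X.comap (MonoidHom.inr G H)) : p * n * p⁻¹ ∈ X.comap (MonoidHom.inr G H) := by
  obtain ⟨⟨g, p'⟩, hy, rfl⟩ := hp
  have h1 : ((1 : G), n) ∈ X := hn
  have h2 := X.mul_mem (X.mul_mem hy h1) (X.inv_mem hy)
  rw [Subgroup.mem_comap]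
  have h3 : (g, p') * ((1 : G), n) * (g, p')⁻¹ = (1, p' * n * p'⁻¹) := by
    ext
    · simp
    · simp
  rw [h3] at h2
  exact h2

theorem conj_inl (X : Subgroup (G × H)) {p : G} (hp : p ∈ X.map (MonoidHom.fst G H)) {n : G}
    (hn : n ∈ X.comap (MonoidHom.inl G H)) : p * n * p⁻¹ ∈ X.comap (MonoidHom.inl G H) := by
  obtain ⟨⟨p', g⟩, hy, rfl⟩ := hp
  have h1 : (n, (1 : H)) ∈ X := hn
  have h2 := X.mul_mem (X.mul_mem hy h1) (X.inv_mem hy)
  rw [Subgroup.mem_comap]
  have h3 : (p', g) * (n, (1 : H)) * (p', g)⁻¹ = (p' * n * p'⁻¹, 1) := by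
    ext
    · simp
    · simp
  rw [h3] at h2
  exact h2

theorem index_inl_le (X : Subgroup (G × H)) : (X.comap (MonoidHom.inl G H)).index ≤ X.index := by
  rw [index_prod X]
  exact Nat.le_mul_of_pos_right _ (Nat.pos_of_ne_zero (Subgroup.index_ne_zero_of_finite))

theorem index_inr_le (X : Subgroup (G × H)) : (X.comap (MonoidHom.inr G H)).index ≤ X.index := by
  rw [index_prod' X]
  exact Nat.le_mul_of_pos_right _ (Nat.pos_of_ne_zero (Subgroup.index_ne_zero_of_finite))

end prod

/-- an odd order group or an involution -/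
theorem odd_or_inv {L : Type*} [Group L] [Finite L] (N : Subgroup L) :
    Odd (Nat.card N) ∨ ∃ a ∈ N, a ≠ 1 ∧ a * a = 1 := by
  rcases Nat.even_or_odd (Nat.card N) with h | h
  · right
    have : Fact (Nat.Prime 2) := ⟨Nat.prime_two⟩
    obtain ⟨a, ha⟩ := exists_prime_orderOf_dvd_card' 2 h.two_dvd
    refine ⟨a, a.2, ?_, ?_⟩
    · intro h1
      have h2 : a = 1 := Subtype.ext h1
      rw [h2, orderOf_one] at ha
      omega
    · have h2 := pow_orderOf_eq_one a
      rw [ha, pow_two] at h2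
      exact congrArg Subtype.val h2
  · exact Or.inl h

/-- The facts on `L = PSL₂(q)`. -/
structure LFacts (L : Type*) [Group L] (q : ℕ) : Prop where
  /-- a subgroup with a nontrivial normal subgroup of odd order has index at least `q + 1` -/
  k1 : ∀ R M : Subgroup L, M ≤ R → (∀ r ∈ R, ∀ m ∈ M, r * m * r⁻¹ ∈ M) → M ≠ ⊥ → Odd (Nat.card M) → q + 1 ≤ R.index
  card : 2 * Nat.card L = q * (q ^ 2 - 1)

section core

variable {L : Type*} [Group L] [Finite L] {q : ℕ}

theorem LFacts.le_card (h : LFacts L q) (hq : 3 ≤ q) : q + 1 ≤ Nat.card L := by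
  have h1 := h.card
  obtain ⟨m, rfl⟩ : ∃ m, q = m + 3 := ⟨q - 3, by omega⟩
  have h2 : (m + 3) ^ 2 - 1 = m ^ 2 + 6 * m + 8 := by
    have : (m + 3) ^ 2 = m ^ 2 + 6 * m + 9 := by ring
    omega
  rw [h2] at h1
  nlinarith [Nat.zero_le (m ^ 2), Nat.zero_le m, Nat.zero_le (m * m ^ 2)]

/-- **(A)** -/
theorem LFacts.claimA (h : LFacts L q) (hq : 3 ≤ q) {Y : Subgroup (L × L)}
    (hY : ∀ a b : L, a ≠ 1 → b ≠ 1 → a * a = 1 → b * b = 1 → (a, b) ∉ Y) : q + 1 ≤ Y.index := by
  by_contra hcon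
  push Not at hcon
  have key : ∀ N : Subgroup L, N.index ≤ Y.index → ∃ a ∈ N, a ≠ 1 ∧ a * a = 1 := by
    intro N hN
    rcases odd_or_inv N with h1 | h1
    · exfalso
      by_cases h2 : N = ⊥
      · have h3 := h.le_card hq
        rw [h2, Subgroup.index_bot] at hN
        omega
      · have h3 := h.k1 N N le_rfl (fun r hr m hm => N.mul_mem (N.mul_mem hr hm) (N.inv_mem hr)) h2 h1
        omega
    · exact h1
  obtain ⟨a, ha, ha1, ha2⟩ := key _ (index_inl_le Y)
  obtain ⟨b, hb, hb1, hb2⟩ := key _ (index_inr_le Y)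
  apply hY a b ha1 hb1 ha2 hb2
  have h3 := Y.mul_mem (show (a, (1 : L)) ∈ Y from ha) (show ((1 : L), b) ∈ Y from hb)
  rwa [Prod.mk_mul_mk, mul_one, one_mul] at h3

/-- **(B)** -/
theorem LFacts.claimB (h : LFacts L q) {G : Type*} [Group G] [Finite G] {X : Subgroup (G × L)}
    (hX : ∀ c : L, c ≠ 1 → c * c = 1 → ((1 : G), c) ∉ X) :
    Nat.card L ≤ X.index ∨ (q + 1) * (X.comap (MonoidHom.inl G L)).index ≤ X.index := by
  have hodd : Odd (Nat.card (X.comap (MonoidHom.inr G L))) := by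
    rcases odd_or_inv (X.comap (MonoidHom.inr G L)) with h1 | ⟨c, hc, h1, h2⟩
    · exact h1
    · exact absurd hc (hX c h1 h2)
  by_cases h2 : X.comap (MonoidHom.inr G L) = ⊥
  · left
    have h3 := index_inr_le X
    rwa [h2, Subgroup.index_bot] at h3
  · right
    have h3 : X.comap (MonoidHom.inr G L) ≤ X.map (MonoidHom.snd G L) := by
      intro n hn
      exact ⟨(1, n), hn, rfl⟩
    have h4 := h.k1 _ _ h3 (fun r hr m hm => conj_inr X hr hm) h2 hodd
    rw [index_prod X, mul_comm]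
    exact Nat.mul_le_mul_left _ h4

/-- **(C)** -/
theorem LFacts.claimC (h : LFacts L q) {Y : Subgroup (L × L)}
    (hY : ∀ a b : L, a ≠ 1 → b ≠ 1 → a * a = 1 → b * b = 1 → (a, b) ∉ Y)
    (hc : Y.index < Nat.card L) :
    (Odd (Nat.card (Y.comap (MonoidHom.inr L L))) ∧ (q + 1) * (Y.comap (MonoidHom.inl L L)).index ≤ Y.index) ∨
    (Odd (Nat.card (Y.comap (MonoidHom.inl L L))) ∧ (q + 1) * (Y.comap (MonoidHom.inr L L)).index ≤ Y.index) := by
  rcases odd_or_inv (Y.comap (MonoidHom.inr L L)) with h1 | ⟨b, hb, hb1, hb2⟩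
  · left
    refine ⟨h1, ?_⟩
    by_cases h2 : Y.comap (MonoidHom.inr L L) = ⊥
    · exfalso
      have h3 := index_inr_le Y
      rw [h2, Subgroup.index_bot] at h3
      omega
    · have h3 : Y.comap (MonoidHom.inr L L) ≤ Y.map (MonoidHom.snd L L) := by
        intro n hn
        exact ⟨(1, n), hn, rfl⟩
      have h4 := h.k1 _ _ h3 (fun r hr m hm => conj_inr Y hr hm) h2 h1
      conv_rhs => rw [index_prod Y, mul_comm]
      exact Nat.mul_le_mul_right _ h4
  · rcases odd_or_inv (Y.comap (MonoidHom.inl L L)) with h1 | ⟨a, ha, ha1, ha2⟩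
    · right
      refine ⟨h1, ?_⟩
      by_cases h2 : Y.comap (MonoidHom.inl L L) = ⊥
      · exfalso
        have h3 := index_inl_le Y
        rw [h2, Subgroup.index_bot] at h3
        omega
      · have h3 : Y.comap (MonoidHom.inl L L) ≤ Y.map (MonoidHom.fst L L) := by
          intro n hn
          exact ⟨(n, 1), hn, rfl⟩
        have h4 := h.k1 _ _ h3 (fun r hr m hm => conj_inl Y hr hm) h2 h1
        conv_rhs => rw [index_prod' Y, mul_comm]
        exact Nat.mul_le_mul_right _ h4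
    · exfalso
      apply hY a b ha1 hb1 ha2 hb2
      have h3 := Y.mul_mem (show (a, (1 : L)) ∈ Y from ha) (show ((1 : L), b) ∈ Y from hb)
      rwa [Prod.mk_mul_mk, mul_one, one_mul] at h3

end core

end Cfsg.Agent.H59.IF
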