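import Cfsg.Agent.H59.IF.Seven
import Cfsg.Agent.H900.IF.ZBound
import Cfsg.Agent.H209.IF.Kill

/-!
# S5719, `Ω₇(q)`, `Ω₉(q)`, `q` odd: no counterexample with `|A|` even (helper59)
-/

set_option autoImplicit false
set_option linter.unusedSectionVars false

namespace Cfsg.Agent.H59.IF

open QuadraticMap Matrix Module Subgroup
open Cfsg.Agent.LieClassical.OrthCore Cfsg.Agent.LieClassical.OrthTrans Cfsg.Agent.LieClassical.OrthSimple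
open Cfsg.Agent.H989.Gs.Gen
open Cfsg.Agent.H989.Fx (Fund fund_ap fund_of_four)
open Cfsg.Agent.UGT.U2.FOne.Orth (Four tl)
open Cfsg.Agent.H198.IF (Neg Fix neg₂ mem_Neg mem_Fix)
open Cfsg.Agent.H520.IF (Tri)
open Cfsg.Agent.H209.Fxy (IF KillE)

variable {F V : Type*} [Field F] [AddCommGroup V] [Module F V] {Q : QuadraticForm F V}

/-- a fundamental involution is the image of `-1` -/
theorem fund_eq {z : ↥(E Q)} (hz : Fund Q z) : ∃ (e₁ f₁ e₂ f₂ : V) (h : Four Q e₁ f₁ e₂ f₂), z = h.rhoE (neg₂ F) := by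
  obtain ⟨e₁, f₁, e₂, f₂, h, z1, z2, z3, z4, z5⟩ := hz
  refine ⟨e₁, f₁, e₂, f₂, h, ?_⟩
  obtain ⟨k1, k2, k3, k4⟩ := H198.IF.rho_neg h
  apply ext_ap
  intro v
  rw [fund_ap h z1 z2 z3 z4 z5, fund_ap h k1 k2 k3 k4 fun w w1 w2 w3 w4 => H198.IF.rho_fix h w1 w2 w3 w4 _]

variable [Finite F] [FiniteDimensional F V] {A : Subgroup ↥(E Q)} {Γ : Subgroup (MulAut ↥(E Q))}

theorem seven (h2 : (2 : F) ≠ 0) (hQ : Nondeg Q) [IsSimpleGroup ↥(E Q)] (hN : finrank F V = 7) (hI : IF A Γ)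
    (hno : ∀ t ∈ A, t * t = 1 → finrank F (Neg t) ≠ 2) {z : ↥(E Q)} (hz : Fund Q z) (hzA : z ∈ A)
    (exists_tri : ∀ {e₁ f₁ e₂ f₂ : V}, Four Q e₁ f₁ e₂ f₂ → ∃ a e f, Tri Q a e f ∧ Pp Q e₁ f₁ e₂ f₂ a ∧
      Pp Q e₁ f₁ e₂ f₂ e ∧ Pp Q e₁ f₁ e₂ f₂ f)
    (unique_fund : (∀ s ∈ A, Fund Q s → s = z) → False) : False := by
  have hG : Good Q := LieClassical.OrthFinite.good_of_finite hQ (by omega)
  obtain ⟨e₁, f₁, e₂, f₂, h, rfl⟩ := fund_eq hz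
  obtain ⟨a, e, f, k, ha, he, hf⟩ := exists_tri h
  have hna := H900.IF.noncomm_of_four h
  obtain ⟨B, hB, h3⟩ := seven_core h k ha he hf h2 hQ hN hI hna hno hzA
  refine unique_fund (H900.IF.seven_unique h2 hG hI hz hzA B hB hN ?_)
  rcases h3 with h3 | ⟨h3, h4⟩
  · exact Or.inl h3
  · refine Or.inr ⟨h3, ?_⟩
    rcases h4 with h4 | h4
    · exact H900.IF.zeta h2 hQ hN h h4
    · exact H900.IF.zeta h2 hQ hN h.swap h4

end Cfsg.Agent.H59.IF
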